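import Groth.Agent.TF94.Basic
import Mathlib.CategoryTheory.Preadditive.Injective.Basic
import Mathlib.Data.Finsupp.Basic

set_option autoImplicit false
universe u

namespace Groth.Agent.TF94

open CategoryTheory Opposite AdeqTF

variable {A : Type u} [CommRing A]

/-- Value of the free functor on `Hom(B, -)`. -/
abbrev FV (B C : Adeq.Alg A) : Type (u + 1) := ULift.{u + 1} (B ⟶ C) →₀ C

/-- Transition map of the free functor. -/
noncomputable def fMap (B : Adeq.Alg A) {C C' : Adeq.Alg A} (f : C ⟶ C') : FV B C →+ FV B C' :=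
  (Finsupp.mapDomain.addMonoidHom (fun h : ULift.{u + 1} (B ⟶ C) =>
    (ULift.up (h.down ≫ f) : ULift.{u + 1} (B ⟶ C')))).comp
      (Finsupp.mapRange.addMonoidHom f.hom.toRingHom.toAddMonoidHom)

theorem fMap_single (B : Adeq.Alg A) {C C' : Adeq.Alg A} (f : C ⟶ C') (h : ULift.{u + 1} (B ⟶ C)) (r : C) :
    fMap B f (Finsupp.single h r) = Finsupp.single (ULift.up (h.down ≫ f)) (f.hom r) := by
  rw [fMap, AddMonoidHom.comp_apply, Finsupp.mapRange.addMonoidHom_apply, Finsupp.mapRange_single]
  exact Finsupp.mapDomain_single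

theorem fMap_smul (B : Adeq.Alg A) {C C' : Adeq.Alg A} (f : C ⟶ C') (r : C) (m : FV B C) :
    fMap B f (r • m) = f.hom r • fMap B f m := by
  induction m using Finsupp.induction_linear with
  | zero => simp
  | add x y hx hy => rw [smul_add, map_add, map_add, hx, hy, smul_add]
  | single h c => rw [Finsupp.smul_single, fMap_single, fMap_single, Finsupp.smul_single, smul_eq_mul, smul_eq_mul, map_mul]

theorem fMap_id (B C : Adeq.Alg A) (m : FV B C) : fMap B (𝟙 C) m = m := by
  induction m using Finsupp.induction_linear with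
  | zero => simp
  | add x y hx hy => rw [map_add, hx, hy]
  | single h c => rw [fMap_single, Category.comp_id]; rfl

theorem fMap_comp (B : Adeq.Alg A) {C C' C'' : Adeq.Alg A} (f : C ⟶ C') (g : C' ⟶ C'') (m : FV B C) :
    fMap B (f ≫ g) m = fMap B g (fMap B f m) := by
  induction m using Finsupp.induction_linear with
  | zero => simp
  | add x y hx hy => rw [map_add, map_add, map_add, hx, hy]
  | single h c => rw [fMap_single, fMap_single, fMap_single, Category.assoc]; rfl

/-- Underlying functor of the free module-valued functor on `Hom(B, -)`. -/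
noncomputable def freeAb (B : Adeq.Alg A) : (Adeq.Alg A)ᵒᵖᵒᵖ ⥤ Ab.{u + 1} where
  obj X := AddCommGrpCat.of (FV B X.unop.unop)
  map {X Y} f := AddCommGrpCat.ofHom (fMap B f.unop.unop)
  map_id X := AddCommGrpCat.hom_ext (AddMonoidHom.ext fun m => fMap_id B _ m)
  map_comp f g := AddCommGrpCat.hom_ext (AddMonoidHom.ext fun m => fMap_comp B f.unop.unop g.unop.unop m)

noncomputable instance freeModule (B : Adeq.Alg A) (X : (Adeq.Alg A)ᵒᵖᵒᵖ) :
    Module ((Adeq.ringOf A).obj X) ((freeAb B).obj X) :=
  inferInstanceAs (Module X.unop.unop (FV B X.unop.unop))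

/-- The free module-valued functor on `Hom(B, -)`. -/
noncomputable def freeMVF (B : Adeq.Alg A) : Adeq.MVF A :=
  PresheafOfModules.ofPresheaf (freeAb B) (fun _ _ f r m => fMap_smul B f.unop.unop r m)

/-- The value map of the morphism out of the free functor attached to an element. -/
noncomputable def dMap (B : Adeq.Alg A) (F : Adeq.MVF A) (x : F.obj (Adeq.pt B)) (C : Adeq.Alg A) :
    FV B C →+ F.obj (Adeq.pt C) :=
  Finsupp.liftAddHom fun h : ULift.{u + 1} (B ⟶ C) => (smulAddHom C (F.obj (Adeq.pt C))).flip (tr F h.down x)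

theorem dMap_single (B : Adeq.Alg A) (F : Adeq.MVF A) (x : F.obj (Adeq.pt B)) (C : Adeq.Alg A)
    (h : ULift.{u + 1} (B ⟶ C)) (r : C) : dMap B F x C (Finsupp.single h r) = r • tr F h.down x := by
  rw [dMap, Finsupp.liftAddHom_apply_single]; rfl

theorem tr_smul (F : Adeq.MVF A) {C C' : Adeq.Alg A} (f : C ⟶ C') (r : C) (x : F.obj (Adeq.pt C)) :
    tr F f (r • x) = f.hom r • tr F f x :=
  (F.map (Adeq.ptHom f)).hom.map_smul r x

theorem dMap_natural (B : Adeq.Alg A) (F : Adeq.MVF A) (x : F.obj (Adeq.pt B)) {C C' : Adeq.Alg A}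
    (f : C ⟶ C') (m : FV B C) : dMap B F x C' (fMap B f m) = tr F f (dMap B F x C m) := by
  induction m using Finsupp.induction_linear with
  | zero => simp
  | add a b ha hb => rw [map_add, map_add, map_add, map_add, ha, hb]
  | single h c => rw [fMap_single, dMap_single, dMap_single, tr_smul, tr_comp]

theorem dMap_smul (B : Adeq.Alg A) (F : Adeq.MVF A) (x : F.obj (Adeq.pt B)) (C : Adeq.Alg A)
    (r : C) (m : FV B C) : dMap B F x C (r • m) = r • dMap B F x C m := by
  induction m using Finsupp.induction_linear with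
  | zero => simp
  | add a b ha hb => rw [smul_add, map_add, map_add, ha, hb, smul_add]
  | single h c => rw [Finsupp.smul_single, dMap_single, dMap_single, smul_eq_mul, mul_smul]

/-- The morphism out of the free functor attached to an element. -/
noncomputable def desc (B : Adeq.Alg A) (F : Adeq.MVF A) (x : F.obj (Adeq.pt B)) : freeMVF B ⟶ F :=
  PresheafOfModules.homMk
    { app := fun X => AddCommGrpCat.ofHom (dMap B F x X.unop.unop)
      naturality := fun X Y f => AddCommGrpCat.hom_ext (AddMonoidHom.ext fun m => dMap_natural B F x f.unop.unop m) }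
    (fun X r m => dMap_smul B F x X.unop.unop r m)

theorem tr_lift {F G I : Adeq.MVF A} (ι : G ⟶ F) (e : F ⟶ I) (d : G ⟶ I) (hd : ι ≫ e = d) {B B' : Adeq.Alg A}
    (φ : B ⟶ B') (a : F.obj (Adeq.pt B)) (a' : G.obj (Adeq.pt B'))
    (h1 : tr F φ a = ι.app (Adeq.pt B') a') :
    tr I φ (e.app (Adeq.pt B) a) = d.app (Adeq.pt B') a' := by
  rw [← app_tr, h1, ← hd]; rfl

theorem tr_surjective (I : Adeq.MVF A) [Injective I] {B B' : Adeq.Alg A} (φ : B ⟶ B')
    (hφ : Function.Surjective φ.hom) : Function.Surjective (tr I φ) := by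
  intro x
  let g : FV B B' := Finsupp.single (ULift.up φ) (1 : B')
  let ι : freeMVF B' ⟶ freeMVF B := desc B' (freeMVF B) g
  have hι : ∀ (C : Adeq.Alg A) (m : FV B' C),
      dMap B' (freeMVF B) g C m = Finsupp.mapDomain (fun h => (ULift.up (φ ≫ h.down) : ULift.{u + 1} (B ⟶ C))) m := by
    intro C m
    induction m using Finsupp.induction_linear with
    | zero => exact (map_zero _).trans Finsupp.mapDomain_zero.symm
    | add a b ha hb => exact (map_add _ a b).trans (by rw [ha, hb, Finsupp.mapDomain_add]; rfl)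
    | single h c =>
      refine (dMap_single B' (freeMVF B) g C h c).trans ?_
      rw [Finsupp.mapDomain_single]
      show (c • fMap B h.down g : FV B C) = _
      rw [fMap_single, Finsupp.smul_single, smul_eq_mul, map_one, mul_one]
  haveI : Mono ι := by
    rw [PresheafOfModules.mono_iff_surjective]
    intro X (a : FV B' X.unop.unop) (b : FV B' X.unop.unop) hab
    refine Finsupp.mapDomain_injective ?_ (((hι _ a).symm.trans hab).trans (hι _ b))
    intro h h' e
    have e' : φ ≫ h.down = φ ≫ h'.down := congrArg ULift.down e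
    refine ULift.ext _ _ (CommAlgCat.hom_ext (AlgHom.ext fun z => ?_))
    obtain ⟨w, rfl⟩ := hφ z
    exact AlgHom.congr_fun (congrArg CommAlgCat.Hom.hom e') w
  let e := Injective.factorThru (desc B' I x) ι
  let a : FV B B := Finsupp.single (ULift.up (𝟙 B)) (1 : B)
  let a' : FV B' B' := Finsupp.single (ULift.up (𝟙 B')) (1 : B')
  have h1 : fMap B φ a = dMap B' (freeMVF B) g B' a' := by
    rw [hι, Finsupp.mapDomain_single, fMap_single, map_one]
    simp
  let a0 : (freeMVF B).obj (Adeq.pt B) := a
  let a1 : (freeMVF B').obj (Adeq.pt B') := a'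
  refine ⟨e.app (Adeq.pt B) a0, ?_⟩
  refine (tr_lift ι e (desc B' I x) (Injective.comp_factorThru _ _) φ a0 a1 h1).trans ?_
  show dMap B' I x B' a' = x
  rw [dMap_single, tr_id, one_smul]

theorem tangentMap_surjective (I : Adeq.MVF A) [Injective I] (B : Adeq.Alg A)
    {N N' : ModuleCat.{u} B} (g : N ⟶ N') (hg : Function.Surjective g.hom) :
    Function.Surjective (tangentMap B I g) := by
  intro x
  obtain ⟨y, hy⟩ := tr_surjective I (map B g) (fun z => by
    obtain ⟨n, hn⟩ := hg z.snd
    exact ⟨TrivSqZeroExt.inl z.fst + TrivSqZeroExt.inr n,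
      TrivSqZeroExt.ext (by simp [map]) (by simp [map, hn])⟩) x.1
  refine ⟨⟨y - tr I (inl B N) (tr I (fst B N) y), ?_⟩, Subtype.ext ?_⟩
  · rw [mem_tangent, map_sub, ← tr_comp I (inl B N) (fst B N), inl_fst, tr_id, sub_self]
  · rw [coe_tangentMap]
    show tr I (map B g) (y - tr I (inl B N) (tr I (fst B N) y)) = _
    rw [map_sub, hy, ← tr_comp I (inl B N) (map B g), inl_map, ← map_fst B g, tr_comp, hy,
      (mem_tangent B I _).1 x.2, map_zero, sub_zero]

end Groth.Agent.TF94
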