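import Groth.Prelude.Def_W4stkadequateTF
import Mathlib.Algebra.Homology.ShortComplex.ModuleCat
import Mathlib.Algebra.Homology.ShortComplex.ExactFunctor

set_option autoImplicit false
universe u

namespace Groth.Agent.TF94

open CategoryTheory CategoryTheory.Limits AdeqTF

variable {A : Type u} [CommRing A]

theorem eval_exact {D : Type*} [Category D] {R : Dᵒᵖ ⥤ RingCat.{u}} (C : ShortComplex (PresheafOfModules.{u + 1} R))
    (hC : C.Exact) (X : Dᵒᵖ) : Function.Exact (C.f.app X) (C.g.app X) := by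
  have h := hC.map (PresheafOfModules.evaluation R X)
  exact (ShortComplex.ShortExact.moduleCat_exact_iff_function_exact _).1 h

/-- The transition map as an additive map. -/
noncomputable def tr (F : Adeq.MVF A) {B B' : Adeq.Alg A} (f : B ⟶ B') :
    F.obj (Adeq.pt B) →+ F.obj (Adeq.pt B') := (F.map (Adeq.ptHom f)).hom.toAddMonoidHom

theorem tr_comp (F : Adeq.MVF A) {B B' B'' : Adeq.Alg A} (f : B ⟶ B') (g : B' ⟶ B'')
    (x : F.obj (Adeq.pt B)) : tr F (f ≫ g) x = tr F g (tr F f x) :=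
  F.map_comp_apply (Adeq.ptHom f) (Adeq.ptHom g) x

theorem tr_id (F : Adeq.MVF A) (B : Adeq.Alg A) (x : F.obj (Adeq.pt B)) : tr F (𝟙 B) x = x := by
  show (F.map (𝟙 (Adeq.pt B))) x = x
  rw [F.map_id]; rfl

theorem app_tr {F G : Adeq.MVF A} (φ : F ⟶ G) {B B' : Adeq.Alg A} (f : B ⟶ B')
    (x : F.obj (Adeq.pt B)) : φ.app (Adeq.pt B') (tr F f x) = tr G f (φ.app (Adeq.pt B) x) :=
  PresheafOfModules.naturality_apply φ (Adeq.ptHom f) x

variable (B : Adeq.Alg A)

theorem mem_tangent (F : Adeq.MVF A) {N : ModuleCat.{u} B} (x : F.obj (Adeq.pt (ext B N))) :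
    x ∈ tangent B N F ↔ tr F (fst B N) x = 0 := Iff.rfl

theorem coe_tangentMap (F : Adeq.MVF A) {N N' : ModuleCat.{u} B} (g : N ⟶ N') (x : tangent B N F) :
    (tangentMap B F g x : F.obj (Adeq.pt (ext B N'))) = tr F (map B g) x := rfl

theorem inl_fst (N : ModuleCat.{u} B) : inl B N ≫ fst B N = 𝟙 B :=
  CommAlgCat.hom_ext (AlgHom.ext fun _ => rfl)

theorem inl_map {N N' : ModuleCat.{u} B} (g : N ⟶ N') : inl B N ≫ map B g = inl B N' := by
  refine CommAlgCat.hom_ext (AlgHom.ext fun b => ?_)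
  show TrivSqZeroExt.map g.hom (TrivSqZeroExt.inl b) = TrivSqZeroExt.inl b
  exact TrivSqZeroExt.map_inl g.hom b

theorem map_comp' {N N' N'' : ModuleCat.{u} B} (g : N ⟶ N') (h : N' ⟶ N'') :
    map B (g ≫ h) = map B g ≫ map B h := by
  refine CommAlgCat.hom_ext (AlgHom.ext fun x => ?_)
  show TrivSqZeroExt.map (h.hom.comp g.hom) x = TrivSqZeroExt.map h.hom (TrivSqZeroExt.map g.hom x)
  rw [TrivSqZeroExt.map_comp_map]; rfl

theorem map_id' (N : ModuleCat.{u} B) : map B (𝟙 N) = 𝟙 (ext B N) := by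
  refine CommAlgCat.hom_ext (AlgHom.ext fun x => ?_)
  show TrivSqZeroExt.map (LinearMap.id) x = x
  rw [TrivSqZeroExt.map_id]; rfl

theorem map_zero' (N N' : ModuleCat.{u} B) : map B (0 : N ⟶ N') = fst B N ≫ inl B N' := by
  refine CommAlgCat.hom_ext (AlgHom.ext fun x => ?_)
  show TrivSqZeroExt.map (0 : N →ₗ[B] N') x = TrivSqZeroExt.inl x.fst
  exact TrivSqZeroExt.ext (TrivSqZeroExt.fst_map _ x) (TrivSqZeroExt.snd_map _ x)

theorem tangentMap_zero (F : Adeq.MVF A) {N N' : ModuleCat.{u} B} (x : tangent B N F) :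
    tangentMap B F (0 : N ⟶ N') x = 0 := by
  apply Subtype.ext
  rw [coe_tangentMap, map_zero', tr_comp, (mem_tangent B F _).1 x.2, map_zero]; rfl

theorem tangentMap_comp (F : Adeq.MVF A) {N N' N'' : ModuleCat.{u} B} (g : N ⟶ N') (h : N' ⟶ N'')
    (x : tangent B N F) : tangentMap B F (g ≫ h) x = tangentMap B F h (tangentMap B F g x) :=
  Subtype.ext (by rw [coe_tangentMap, map_comp', tr_comp]; rfl)

theorem tangentMap_id (F : Adeq.MVF A) {N : ModuleCat.{u} B} (x : tangent B N F) :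
    tangentMap B F (𝟙 N) x = x :=
  Subtype.ext (by rw [coe_tangentMap, map_id', tr_id])

theorem range_le_ker (F : Adeq.MVF A) (S : ShortComplex (ModuleCat.{u} B)) :
    (tangentMap B F S.f).range ≤ (tangentMap B F S.g).ker := by
  rintro _ ⟨x, rfl⟩
  rw [AddMonoidHom.mem_ker, ← tangentMap_comp, S.zero, tangentMap_zero]

/-- The induced map on tangent modules of a morphism of functors. -/
noncomputable def tMor {F G : Adeq.MVF A} (φ : F ⟶ G) (N : ModuleCat.{u} B) :
    tangent B N F →+ tangent B N G :=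
  ((φ.app (Adeq.pt (ext B N))).hom.toAddMonoidHom.comp (tangent B N F).subtype).codRestrict _ fun x => by
    show tr G (fst B N) (φ.app _ x.1) = 0
    rw [← app_tr, (mem_tangent B F _).1 x.2, map_zero]

theorem tMor_natural {F G : Adeq.MVF A} (φ : F ⟶ G) {N N' : ModuleCat.{u} B} (g : N ⟶ N')
    (x : tangent B N F) : tMor B φ N' (tangentMap B F g x) = tangentMap B G g (tMor B φ N x) :=
  Subtype.ext (app_tr φ (map B g) x.1)

variable (C : ShortComplex (Adeq.MVF A)) (hC : C.ShortExact)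
include hC

theorem tMor_injective (N : ModuleCat.{u} B) : Function.Injective (tMor B C.f N) := fun x y h =>
  Subtype.ext (haveI := hC.mono_f; PresheafOfModules.injective_of_mono C.f _ (congrArg Subtype.val h))

theorem tMor_surjective (N : ModuleCat.{u} B) : Function.Surjective (tMor B C.g N) := by
  intro y
  haveI := hC.epi_g
  obtain ⟨x, hx⟩ := PresheafOfModules.surjective_of_epi C.g _ y.1
  refine ⟨⟨x - tr C.X₂ (inl B N) (tr C.X₂ (fst B N) x), ?_⟩, Subtype.ext ?_⟩
  · rw [mem_tangent, map_sub, ← tr_comp C.X₂ (inl B N) (fst B N), inl_fst, tr_id, sub_self]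
  · show C.g.app _ (x - _) = _
    rw [map_sub, app_tr, app_tr, hx, (mem_tangent B C.X₃ _).1 y.2, map_zero, sub_zero]

theorem tMor_exact (N : ModuleCat.{u} B) (x : tangent B N C.X₂) (hx : tMor B C.g N x = 0) :
    ∃ y, tMor B C.f N y = x := by
  obtain ⟨y, hy⟩ := (eval_exact C hC.exact (Adeq.pt (ext B N)) x.1).1 (congrArg Subtype.val hx)
  refine ⟨⟨y, ?_⟩, Subtype.ext hy⟩
  rw [mem_tangent]
  haveI := hC.mono_f
  apply PresheafOfModules.injective_of_mono C.f (Adeq.pt B)
  rw [app_tr, map_zero]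
  exact (congrArg (tr C.X₂ (fst B N)) hy).trans ((mem_tangent B C.X₂ _).1 x.2)

omit hC in
theorem tMor_comp_eq_zero (N : ModuleCat.{u} B) (y : tangent B N C.X₁) :
    tMor B C.g N (tMor B C.f N y) = 0 := by
  apply Subtype.ext
  have h := congrArg (fun φ : C.X₁ ⟶ C.X₃ => φ.app (Adeq.pt (ext B N))) C.zero
  exact ConcreteCategory.congr_hom h y.1

theorem rightExact_X₃
    (h₁ : ∀ (B : Adeq.Alg A) (S : ShortComplex (ModuleCat.{u} B)), S.ShortExact →
        Function.Surjective (tangentMap B C.X₁ S.g) ∧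
          (tangentMap B C.X₁ S.g).ker = (tangentMap B C.X₁ S.f).range)
    (h₂ : ∀ (B : Adeq.Alg A) (S : ShortComplex (ModuleCat.{u} B)), S.ShortExact →
        Function.Surjective (tangentMap B C.X₂ S.g) ∧
          (tangentMap B C.X₂ S.g).ker = (tangentMap B C.X₂ S.f).range)
    (S : ShortComplex (ModuleCat.{u} B)) (hS : S.ShortExact) :
    Function.Surjective (tangentMap B C.X₃ S.g) ∧
      (tangentMap B C.X₃ S.g).ker = (tangentMap B C.X₃ S.f).range := by
  refine ⟨fun z => ?_, le_antisymm (fun z hz => ?_) (range_le_ker B _ S)⟩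
  · obtain ⟨g3, rfl⟩ := tMor_surjective B C hC _ z
    obtain ⟨g2, rfl⟩ := (h₂ B S hS).1 g3
    exact ⟨tMor B C.g _ g2, (tMor_natural B C.g _ g2).symm⟩
  · obtain ⟨g2, rfl⟩ := tMor_surjective B C hC _ z
    rw [AddMonoidHom.mem_ker, ← tMor_natural] at hz
    obtain ⟨f3, hf3⟩ := tMor_exact B C hC _ _ hz
    obtain ⟨f2, rfl⟩ := (h₁ B S hS).1 f3
    have h : g2 - tMor B C.f _ f2 ∈ (tangentMap B C.X₂ S.g).ker := by
      rw [AddMonoidHom.mem_ker, map_sub, ← tMor_natural B C.f, hf3, sub_self]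
    rw [(h₂ B S hS).2] at h
    obtain ⟨g1, hg1⟩ := h
    refine ⟨tMor B C.g _ g1, ?_⟩
    rw [← tMor_natural, hg1, map_sub, tMor_comp_eq_zero B C, sub_zero]

theorem rightExact_X₂
    (h₁ : ∀ (B : Adeq.Alg A) (S : ShortComplex (ModuleCat.{u} B)), S.ShortExact →
        Function.Surjective (tangentMap B C.X₁ S.g) ∧
          (tangentMap B C.X₁ S.g).ker = (tangentMap B C.X₁ S.f).range)
    (h₃ : ∀ (B : Adeq.Alg A) (S : ShortComplex (ModuleCat.{u} B)), S.ShortExact →
        Function.Surjective (tangentMap B C.X₃ S.g) ∧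
          (tangentMap B C.X₃ S.g).ker = (tangentMap B C.X₃ S.f).range)
    (S : ShortComplex (ModuleCat.{u} B)) (hS : S.ShortExact) :
    Function.Surjective (tangentMap B C.X₂ S.g) ∧
      (tangentMap B C.X₂ S.g).ker = (tangentMap B C.X₂ S.f).range := by
  refine ⟨fun g3 => ?_, le_antisymm (fun g2 hg2 => ?_) (range_le_ker B _ S)⟩
  · obtain ⟨h2, hh2⟩ := (h₃ B S hS).1 (tMor B C.g _ g3)
    obtain ⟨g2, rfl⟩ := tMor_surjective B C hC _ h2
    rw [← tMor_natural] at hh2
    obtain ⟨f3, hf3⟩ := tMor_exact B C hC _ (g3 - tangentMap B C.X₂ S.g g2) (by rw [map_sub, hh2, sub_self])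
    obtain ⟨f2, rfl⟩ := (h₁ B S hS).1 f3
    refine ⟨g2 + tMor B C.f _ f2, ?_⟩
    rw [map_add, ← tMor_natural B C.f, hf3, add_sub_cancel]
  · rw [AddMonoidHom.mem_ker] at hg2
    have hh2 : tMor B C.g _ g2 ∈ (tangentMap B C.X₃ S.g).ker := by
      rw [AddMonoidHom.mem_ker, ← tMor_natural, hg2, map_zero]
    rw [(h₃ B S hS).2] at hh2
    obtain ⟨h1, hh1⟩ := hh2
    obtain ⟨g1, rfl⟩ := tMor_surjective B C hC _ h1
    rw [← tMor_natural] at hh1
    obtain ⟨f2, hf2⟩ := tMor_exact B C hC _ (g2 - tangentMap B C.X₂ S.f g1) (by rw [map_sub, hh1, sub_self])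
    have hf3 : f2 ∈ (tangentMap B C.X₁ S.g).ker := by
      rw [AddMonoidHom.mem_ker]
      apply tMor_injective B C hC
      rw [tMor_natural, hf2, map_sub, hg2, ← tangentMap_comp, S.zero, tangentMap_zero, sub_zero, map_zero]
    rw [(h₁ B S hS).2] at hf3
    obtain ⟨f1, rfl⟩ := hf3
    refine ⟨g1 + tMor B C.f _ f1, ?_⟩
    rw [map_add, ← tMor_natural B C.f, hf2, add_sub_cancel]

omit hC in
theorem coprod_bijective (F : Adeq.MVF A)
    (hF : ∀ (B : Adeq.Alg A) (S : ShortComplex (ModuleCat.{u} B)), S.ShortExact →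
        Function.Surjective (tangentMap B F S.g) ∧ (tangentMap B F S.g).ker = (tangentMap B F S.f).range)
    (N₁ N₂ : ModuleCat.{u} B) :
    Function.Bijective ((tangentMap B F (biprod.inl : N₁ ⟶ N₁ ⊞ N₂)).coprod
      (tangentMap B F (biprod.inr : N₂ ⟶ N₁ ⊞ N₂))) := by
  let S := ShortComplex.mk (biprod.inl : N₁ ⟶ N₁ ⊞ N₂) biprod.snd biprod.inl_snd
  have hS : S.ShortExact :=
    (ShortComplex.Splitting.ofHasBinaryBiproduct N₁ N₂).shortExact
  constructor
  · refine (injective_iff_map_eq_zero _).2 fun ⟨a, b⟩ h => ?_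
    rw [AddMonoidHom.coprod_apply] at h
    have hb := congrArg (tangentMap B F (biprod.snd : N₁ ⊞ N₂ ⟶ N₂)) h
    rw [map_add, ← tangentMap_comp, ← tangentMap_comp, biprod.inl_snd, biprod.inr_snd, tangentMap_zero,
      tangentMap_id, map_zero, zero_add] at hb
    obtain rfl : b = 0 := hb
    have ha := congrArg (tangentMap B F (biprod.fst : N₁ ⊞ N₂ ⟶ N₁)) h
    rw [map_zero, add_zero, ← tangentMap_comp, biprod.inl_fst, tangentMap_id, map_zero] at ha
    obtain rfl : a = 0 := ha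
    rfl
  · intro x
    have h : x - tangentMap B F biprod.inr (tangentMap B F biprod.snd x) ∈ (tangentMap B F S.g).ker := by
      rw [AddMonoidHom.mem_ker, map_sub]
      show _ - tangentMap B F biprod.snd _ = 0
      rw [← tangentMap_comp, ← tangentMap_comp, biprod.inr_snd, Category.comp_id]
      exact sub_self _
    rw [(hF B S hS).2] at h
    obtain ⟨a, ha⟩ := h
    refine ⟨(a, tangentMap B F biprod.snd x), ?_⟩
    rw [AddMonoidHom.coprod_apply]
    exact eq_sub_iff_add_eq.1 ha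

end Groth.Agent.TF94
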